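import Cfsg.Agent.ReeF4.Count
import Cfsg.Agent.FlagChar.Unipotent
import Cfsg.Agent.Characters.DefectZero

/-!
# The Steinberg character of ²F₄(q)

The Bruhat label `ψ`, the four parabolic subgroups above the Borel subgroup with their orders and
double coset numbers, and the alternating sum `π_B - π_P - π_Q + 1` of their permutation
characters: it is irreducible of degree `q ^ 12`, so it vanishes at every element of even order.
-/

set_option autoImplicit false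
set_option maxHeartbeats 800000

namespace CfsgLib.ReeF4Steinberg

open Cfsg.Lie CfsgLib.Chevalley CfsgLib.ReeF4
open scoped MatrixGroups

variable {K : Type*} [Field K] [CharP K 2] [Finite K] (T : Tw K)

omit [Finite K] in
theorem exists_cell (g : ↥T.G1) : ∃ d, (g : GL D.Idx K) ∈ cell hW hR K (θD d) := by
  obtain ⟨d, u, hu, h, hh, v, hv, e⟩ := T.exists_form (T.G1_le_fix g.2)
  exact ⟨d, e ▸ mem_cell_nD (mul_mem (T.U1_le_borel hu) (T.H1_le_borel hh))
    (T.U1_le_borel (T.uF_le_U1 (List.all_eq_true.1 invS_ok d (mem_dList d)) 0 hv)) d⟩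

/-- The Bruhat label. -/
noncomputable def psi (g : ↥T.G1) : DihedralGroup 8 := (exists_cell T g).choose

theorem psi_spec (g : ↥T.G1) : (g : GL D.Idx K) ∈ cell hW hR K (θD (psi T g)) :=
  (exists_cell T g).choose_spec

theorem psi_eq {g : ↥T.G1} {d : DihedralGroup 8} (h : (g : GL D.Idx K) ∈ cell hW hR K (θD d)) :
    psi T g = d :=
  θD_injective (cell_eq_of_mem hW hR (psi_spec T g) h)

theorem psi_borel_mul {b c g : ↥T.G1} (hb : (b : GL D.Idx K) ∈ D.borelSubgroup K)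
    (hc : (c : GL D.Idx K) ∈ D.borelSubgroup K) : psi T (b * g * c) = psi T g :=
  psi_eq T (mul_mem_cell hW hR hb (psi_spec T g) hc)

theorem psi_of_monBy {n : ↥T.G1} (hn : (n : GL D.Idx K) ∈ D.monomialSubgroup K)
    {d : DihedralGroup 8} (hπ : MonBy hW (n : GL D.Idx K) (dP d)) : psi T n = d := by
  refine psi_eq T ?_
  have hk := diag_le_borel D (diag_of_monBy hn (nD_monomial d) hπ (monBy_nD d))
  have := mem_cell_nD hk (one_mem _) d
  rwa [mul_one, inv_mul_cancel_right] at this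

theorem psi_nD (d : DihedralGroup 8) : psi T ⟨nD K d, T.nD_mem d⟩ = d :=
  psi_of_monBy T (nD_monomial d) (monBy_nD d)

theorem psi_borel {b : ↥T.G1} (hb : (b : GL D.Idx K) ∈ D.borelSubgroup K) : psi T b = 1 := by
  refine psi_eq T ?_
  rw [map_one, cell_one hW hR]
  exact hb

/-- The normal form around the Bruhat label. -/
theorem exists_borel_nD (g : ↥T.G1) : ∃ b c : ↥T.G1, (b : GL D.Idx K) ∈ D.borelSubgroup K ∧
    (c : GL D.Idx K) ∈ D.borelSubgroup K ∧ g = b * ⟨nD K (psi T g), T.nD_mem _⟩ * c := by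
  obtain ⟨d, u, hu, h, hh, v, hv, e⟩ := T.exists_form (T.G1_le_fix g.2)
  have hv' := T.uF_le_U1 (List.all_eq_true.1 invS_ok d (mem_dList d)) 0 hv
  have hb : u * h ∈ D.borelSubgroup K := mul_mem (T.U1_le_borel hu) (T.H1_le_borel hh)
  obtain rfl : psi T g = d := psi_eq T (e ▸ mem_cell_nD hb (T.U1_le_borel hv') d)
  exact ⟨⟨u * h, mul_mem (T.U1_le_G1 hu) (T.H1_le_G1 hh)⟩, ⟨v, T.U1_le_G1 hv'⟩, hb,
    T.U1_le_borel hv', Subtype.ext e.symm⟩

theorem psi_inv (g : ↥T.G1) : psi T g⁻¹ = (psi T g)⁻¹ := by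
  obtain ⟨b, c, hb, hc, e⟩ := exists_borel_nD T g
  set d := psi T g
  rw [e, mul_inv_rev, mul_inv_rev, ← mul_assoc,
    psi_borel_mul T (b := c⁻¹) (c := b⁻¹) (inv_mem hc) (inv_mem hb)]
  refine psi_of_monBy T (inv_mem (nD_monomial d)) ?_
  rw [map_inv]
  exact (monBy_nD d).inv

/-- The four subgroups of the Weyl group. -/
def wSet : Fin 4 → Finset (DihedralGroup 8)
  | 0 => {1}
  | 1 => {1, dJ false}
  | 2 => {1, dJ true}
  | 3 => Finset.univ

theorem wSet_group : ∀ J, (1 : DihedralGroup 8) ∈ wSet J ∧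
    (∀ a ∈ wSet J, a⁻¹ ∈ wSet J) ∧ ∀ a ∈ wSet J, ∀ b ∈ wSet J, a * b ∈ wSet J := by
  decide +kernel

/-- The parabolic subgroups above the Borel subgroup. -/
def par (J : Fin 4) : Subgroup ↥T.G1 where
  carrier := {p | ∀ g, ∃ w ∈ wSet J, psi T (p * g) = w * psi T g}
  one_mem' g := ⟨1, (wSet_group J).1, by rw [one_mul, one_mul]⟩
  mul_mem' {p p'} hp hp' g := by
    obtain ⟨w', hw', e'⟩ := hp' g
    obtain ⟨w, hw, e⟩ := hp (p' * g)
    exact ⟨w * w', (wSet_group J).2.2 w hw w' hw', by rw [mul_assoc, e, e', mul_assoc]⟩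
  inv_mem' {p} hp g := by
    obtain ⟨w, hw, e⟩ := hp (p⁻¹ * g)
    rw [mul_inv_cancel_left] at e
    exact ⟨w⁻¹, (wSet_group J).2.1 w hw, by rw [e, inv_mul_cancel_left]⟩

theorem borel_mem_par (J : Fin 4) {b : ↥T.G1} (hb : (b : GL D.Idx K) ∈ D.borelSubgroup K) :
    b ∈ par T J := fun g => ⟨1, (wSet_group J).1, by
  rw [one_mul, ← psi_borel_mul T (g := g) (c := 1) hb (one_mem _), mul_one]⟩

theorem psi_nJ_mul (j : Bool) (g : ↥T.G1) :
    psi T (⟨nJ K j, T.nJ_mem j⟩ * g) = dJ j * psi T g ∨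
      psi T (⟨nJ K j, T.nJ_mem j⟩ * g) = psi T g := by
  obtain ⟨b, c, hb, hc, e⟩ := exists_borel_nD T g
  obtain ⟨u, hu, h, hh, ebu⟩ := T.exists_borel_fix hb (T.G1_le_fix b.2)
  set d := psi T g
  have hkH : (nD K d)⁻¹ * h * nD K d ∈ T.H1 := by
    have := T.conj_H1 (inv_mem (nD_monomial d)) (inv_mem (T.nD_fix d)) hh
    rwa [inv_inv] at this
  have hc' : (nD K d)⁻¹ * h * nD K d * c ∈ D.borelSubgroup K :=
    mul_mem (T.H1_le_borel hkH) hc
  have hval : ((⟨nJ K j, T.nJ_mem j⟩ * g : ↥T.G1) : GL D.Idx K) =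
      nJ K j * u * nD K d * ((nD K d)⁻¹ * h * nD K d * c) := by
    rw [Subgroup.coe_mul, e, Subgroup.coe_mul, Subgroup.coe_mul, ← ebu]
    group
  rcases T.nJ_mul_U1_mul j hu d with ⟨u', hu', h', hh', v, hv, e'⟩ | ⟨u', hu', h', hh', v, hv, e'⟩
  · refine Or.inl (psi_eq T ?_)
    have hn : MonBy hW (nJ K j * nD K d) (dP (dJ j * d)) := by
      rw [map_mul]
      exact (monBy_nJ j).mul (monBy_nD d)
    have hk := diag_le_borel D (diag_of_monBy (mul_mem (nJ_monomial j) (nD_monomial d))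
      (nD_monomial _) hn (monBy_nD (dJ j * d)))
    have := mem_cell_nD (mul_mem (mul_mem (T.U1_le_borel hu') (T.H1_le_borel hh')) hk)
      (mul_mem (T.U1_le_borel hv) hc') (dJ j * d)
    rw [hval, ← e']
    convert this using 1
    group
  · refine Or.inr (psi_eq T ?_)
    have := mem_cell_nD (mul_mem (T.U1_le_borel hu') (T.H1_le_borel hh'))
      (mul_mem (T.U1_le_borel hv) hc') d
    rw [hval, ← e']
    convert this using 1
    group

theorem nD_mem_par {J : Fin 4} {w : DihedralGroup 8} (hw : w ∈ wSet J) :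
    (⟨nD K w, T.nD_mem w⟩ : ↥T.G1) ∈ par T J := by
  intro g
  by_cases h3 : J = 3
  · subst h3
    exact ⟨psi T (⟨nD K w, T.nD_mem w⟩ * g) * (psi T g)⁻¹, Finset.mem_univ _,
      by rw [inv_mul_cancel_right]⟩
  have hJ : ∀ J : Fin 4, J ≠ 3 → ∀ w ∈ wSet J, w = 1 ∨ ∃ j : Bool, w = dJ j := by decide +kernel
  rcases hJ J h3 w hw with rfl | ⟨j, rfl⟩
  · exact borel_mem_par T J (by
      show nD K (1 : DihedralGroup 8) ∈ D.borelSubgroup K
      rw [DihedralGroup.one_def]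
      simp [nD]) g
  · set k := nD K (dJ j) * (nJ K j)⁻¹
    have hk : k ∈ D.borelSubgroup K := diag_le_borel D
      (diag_of_monBy (nD_monomial _) (nJ_monomial j) (monBy_nD _) (monBy_nJ j))
    have hkG : k ∈ T.G1 := mul_mem (T.nD_mem _) (inv_mem (T.nJ_mem j))
    have e : (⟨nD K (dJ j), T.nD_mem _⟩ : ↥T.G1) * g =
        ⟨k, hkG⟩ * (⟨nJ K j, T.nJ_mem j⟩ * g) * 1 := by
      rw [mul_one, ← mul_assoc]
      congr 1
      exact Subtype.ext (inv_mul_cancel_right _ _).symm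
    rw [e, psi_borel_mul T (b := ⟨k, hkG⟩) hk (one_mem _)]
    rcases psi_nJ_mul T j g with h | h
    · exact ⟨_, hw, h⟩
    · exact ⟨1, (wSet_group J).1, by rw [h, one_mul]⟩

theorem mem_par {J : Fin 4} {p : ↥T.G1} : p ∈ par T J ↔ psi T p ∈ wSet J := by
  constructor
  · intro hp
    obtain ⟨w, hw, e⟩ := hp 1
    rw [mul_one, psi_borel T (b := 1) (one_mem _), mul_one] at e
    rwa [e]
  · intro hp
    obtain ⟨b, c, hb, hc, e⟩ := exists_borel_nD T p
    rw [e]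
    exact mul_mem (mul_mem (borel_mem_par T J hb) (nD_mem_par T hp)) (borel_mem_par T J hc)

/-- The orbit of a Weyl element in a double coset. -/
def orb (I J : Fin 4) (d : DihedralGroup 8) : Finset (DihedralGroup 8) :=
  (wSet I ×ˢ wSet J).image fun x => x.1 * d * x.2

theorem mem_orb {I J : Fin 4} {d e : DihedralGroup 8} :
    e ∈ orb I J d ↔ ∃ a ∈ wSet I, ∃ c ∈ wSet J, a * d * c = e := by
  simp [orb, and_assoc]

theorem self_mem_orb (I J : Fin 4) (d : DihedralGroup 8) : d ∈ orb I J d :=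
  mem_orb.2 ⟨1, (wSet_group I).1, 1, (wSet_group J).1, by simp⟩

theorem orb_eq {I J : Fin 4} {d e : DihedralGroup 8} (he : e ∈ orb I J d) :
    orb I J e = orb I J d := by
  obtain ⟨a, ha, c, hc, rfl⟩ := mem_orb.1 he
  obtain ⟨-, hIi, hIm⟩ := wSet_group I
  obtain ⟨-, hJi, hJm⟩ := wSet_group J
  ext x
  rw [mem_orb, mem_orb]
  constructor
  · rintro ⟨a', ha', c', hc', rfl⟩
    exact ⟨a' * a, hIm _ ha' _ ha, c * c', hJm _ hc _ hc', by simp [mul_assoc]⟩
  · rintro ⟨a', ha', c', hc', rfl⟩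
    exact ⟨a' * a⁻¹, hIm _ ha' _ (hIi _ ha), c⁻¹ * c', hJm _ (hJi _ hc) _ hc', by simp [mul_assoc]⟩

theorem psi_mul_orb {I J : Fin 4} {p g r : ↥T.G1} (hp : p ∈ par T I) (hr : r ∈ par T J) :
    psi T (p * g * r) ∈ orb I J (psi T g) := by
  obtain ⟨a, ha, e1⟩ := hp (g * r)
  obtain ⟨c, hc, e2⟩ := (inv_mem hr : r⁻¹ ∈ par T J) g⁻¹
  rw [← mul_inv_rev, psi_inv, psi_inv] at e2
  have e3 : psi T (g * r) = psi T g * c⁻¹ := by
    rw [← inv_inv (psi T (g * r)), e2, mul_inv_rev, inv_inv]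
  rw [mul_assoc, e1, e3, ← mul_assoc]
  exact mem_orb.2 ⟨a, ha, c⁻¹, (wSet_group J).2.1 c hc, rfl⟩

theorem card_doubleCoset (I J : Fin 4) :
    Nat.card (DoubleCoset.Quotient (par T I : Set ↥T.G1) (par T J)) =
      (Finset.univ.image (orb I J)).card := by
  have hwd : ∀ g g' : ↥T.G1, g' ∈ DoubleCoset.doubleCoset g (par T I : Set ↥T.G1) (par T J) →
      orb I J (psi T g') = orb I J (psi T g) := by
    intro g g' hg
    obtain ⟨p, hp, r, hr, rfl⟩ := DoubleCoset.mem_doubleCoset.1 hg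
    exact orb_eq (psi_mul_orb T hp hr)
  let F : DoubleCoset.Quotient (par T I : Set ↥T.G1) (par T J) →
      ↥(Finset.univ.image (orb I J)) := fun x => Quotient.liftOn' x
    (fun g => ⟨orb I J (psi T g), Finset.mem_image_of_mem _ (Finset.mem_univ _)⟩)
    fun g g' h => Subtype.ext (hwd g g' (by
      obtain ⟨p, hp, r, hr, e⟩ := DoubleCoset.rel_iff.1 h
      exact DoubleCoset.mem_doubleCoset.2 ⟨p, hp, r, hr, e⟩)).symm
  rw [← Nat.card_eq_finsetCard]
  refine Nat.card_eq_of_bijective F ⟨?_, ?_⟩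
  · intro x y
    induction x using Quotient.inductionOn' with | _ g => ?_
    induction y using Quotient.inductionOn' with | _ g' => ?_
    intro h
    have h' : orb I J (psi T g) = orb I J (psi T g') := congrArg Subtype.val h
    have hm : psi T g' ∈ orb I J (psi T g) := h' ▸ self_mem_orb I J _
    obtain ⟨a, ha, c, hc, e⟩ := mem_orb.1 hm
    obtain ⟨b1, c1, hb1, hc1, e1⟩ := exists_borel_nD T g
    obtain ⟨b2, c2, hb2, hc2, e2⟩ := exists_borel_nD T g'
    refine (DoubleCoset.eq _ _ g g').2 ?_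
    set na : ↥T.G1 := ⟨nD K a, T.nD_mem a⟩
    set nd : ↥T.G1 := ⟨nD K (psi T g), T.nD_mem _⟩
    set nc : ↥T.G1 := ⟨nD K c, T.nD_mem c⟩
    set nd' : ↥T.G1 := ⟨nD K (psi T g'), T.nD_mem _⟩ with hnd'
    set k := nd' * (na * nd * nc)⁻¹ with hk
    have hkB : (k : GL D.Idx K) ∈ D.borelSubgroup K := by
      refine diag_le_borel D (diag_of_monBy (nD_monomial _)
        (mul_mem (mul_mem (nD_monomial a) (nD_monomial _)) (nD_monomial c)) (monBy_nD _) ?_)
      rw [← e, map_mul, map_mul]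
      exact ((monBy_nD a).mul (monBy_nD _)).mul (monBy_nD c)
    refine ⟨b2 * k * na * b1⁻¹, mul_mem (mul_mem (mul_mem (borel_mem_par T I hb2)
      (borel_mem_par T I hkB)) (nD_mem_par T ha)) (inv_mem (borel_mem_par T I hb1)),
      c1⁻¹ * nc * c2, mul_mem (mul_mem (inv_mem (borel_mem_par T J hc1)) (nD_mem_par T hc))
        (borel_mem_par T J hc2), ?_⟩
    rw [hk, e2, e1]
    group
  · rintro ⟨S, hS⟩
    obtain ⟨d, -, rfl⟩ := Finset.mem_image.1 hS
    exact ⟨Quotient.mk'' ⟨nD K d, T.nD_mem d⟩, Subtype.ext (by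
      show orb I J (psi T ⟨nD K d, T.nD_mem d⟩) = orb I J d
      rw [psi_nD])⟩

theorem card_psi_le (d : DihedralGroup 8) :
    Nat.card {g : ↥T.G1 // psi T g = d} ≤
      Nat.card K ^ 12 * (Nat.card K - 1) ^ 2 * Nat.card K ^ nSlots (invS d) := by
  have hS : chkSet (invS d) = true := List.all_eq_true.1 invS_ok d (mem_dList d)
  rw [← T.natCard_U1, ← T.natCard_H1, ← T.natCard_uF hS, ← Nat.card_prod, ← Nat.card_prod]
  refine Nat.card_le_card_of_surjective (fun p : (↥T.U1 × ↥T.H1) × ↥(T.uF (invS d) 0) =>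
    (⟨⟨p.1.1 * p.1.2 * nD K d * p.2, mul_mem (mul_mem (mul_mem (T.U1_le_G1 p.1.1.2)
      (T.H1_le_G1 p.1.2.2)) (T.nD_mem d)) (T.uF_le_G1 hS 0 p.2.2)⟩,
      psi_eq T (mem_cell_nD (mul_mem (T.U1_le_borel p.1.1.2) (T.H1_le_borel p.1.2.2))
        (T.U1_le_borel (T.uF_le_U1 hS 0 p.2.2)) d)⟩ : {g : ↥T.G1 // psi T g = d})) ?_
  rintro ⟨g, rfl⟩
  obtain ⟨d, u, hu, h, hh, v, hv, e⟩ := T.exists_form (T.G1_le_fix g.2)
  obtain rfl : psi T g = d := psi_eq T (e ▸ mem_cell_nD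
    (mul_mem (T.U1_le_borel hu) (T.H1_le_borel hh))
    (T.U1_le_borel (T.uF_le_U1 (List.all_eq_true.1 invS_ok d (mem_dList d)) 0 hv)) d)
  exact ⟨((⟨u, hu⟩, ⟨h, hh⟩), ⟨v, hv⟩), Subtype.ext (Subtype.ext e)⟩

theorem card_psi (d : DihedralGroup 8) :
    Nat.card {g : ↥T.G1 // psi T g = d} =
      Nat.card K ^ 12 * (Nat.card K - 1) ^ 2 * Nat.card K ^ nSlots (invS d) := by
  have h1 : ∑ d, Nat.card {g : ↥T.G1 // psi T g = d} =
      ∑ d, Nat.card K ^ 12 * (Nat.card K - 1) ^ 2 * Nat.card K ^ nSlots (invS d) := by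
    rw [← Nat.card_sigma, Nat.card_congr (Equiv.sigmaFiberEquiv (psi T)), ← Finset.mul_sum,
      T.G1_eq_fix, T.natCard_fix]
  exact (Finset.sum_eq_sum_iff_of_le fun d _ => card_psi_le T d).1 h1 d (Finset.mem_univ d)

theorem card_par (J : Fin 4) :
    Nat.card ↥(par T J) = Nat.card K ^ 12 * (Nat.card K - 1) ^ 2 *
      ∑ d ∈ wSet J, Nat.card K ^ nSlots (invS d) := by
  rw [Finset.mul_sum, Nat.card_congr (Equiv.subtypeEquivRight fun p => mem_par T (J := J) (p := p))]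
  simp only [← card_psi T]
  rw [← Finset.sum_coe_sort (wSet J) (fun d => Nat.card {g : ↥T.G1 // psi T g = d}), ← Nat.card_sigma]
  exact Nat.card_congr (Equiv.sigmaSubtypeFiberEquivSubtype (psi T) fun _ => Iff.rfl).symm

/-- The signs. -/
def sgn : Fin 4 → ℤ
  | 0 => 1
  | 1 => -1
  | 2 => -1
  | 3 => 1

theorem norm_count : ∑ I : Fin 4, sgn I * ∑ J : Fin 4,
    sgn J * ((Finset.univ.image (orb J I)).card : ℤ) = 1 := by
  decide +kernel

theorem wSum (q : ℕ) :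
    (∑ d ∈ wSet 0, q ^ nSlots (invS d)) = 1 ∧
    (∑ d ∈ wSet 1, q ^ nSlots (invS d)) = 1 + q ∧
    (∑ d ∈ wSet 2, q ^ nSlots (invS d)) = 1 + q ^ 2 ∧
    (∑ d ∈ wSet 3, q ^ nSlots (invS d)) = (1 + q + q ^ 2 + q ^ 3) * (1 + q ^ 3 + q ^ 6 + q ^ 9) := by
  have h : nSlots (invS 1) = 0 ∧ nSlots (invS (dJ false)) = 1 ∧ nSlots (invS (dJ true)) = 2 ∧
      (1 : DihedralGroup 8) ≠ dJ false ∧ (1 : DihedralGroup 8) ≠ dJ true := by decide +kernel
  obtain ⟨h0, h1, h2, hf, ht⟩ := h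
  refine ⟨?_, ?_, ?_, sum_nSlots q⟩ <;>
    simp [wSet, Finset.sum_pair hf, Finset.sum_pair ht, h0, h1, h2]

/-- The Steinberg character. -/
noncomputable def st : ↥T.G1 → ℂ :=
  ∑ J : Fin 4, (sgn J : ℂ) • Cfsg.fixedPointCharacter (par T J)

theorem index_par (J : Fin 4) :
    Nat.card (↥T.G1 ⧸ par T J) * ∑ d ∈ wSet J, Nat.card K ^ nSlots (invS d) =
      ∑ d ∈ wSet 3, Nat.card K ^ nSlots (invS d) := by
  have h := Subgroup.card_eq_card_quotient_mul_card_subgroup (par T J)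
  have hpos : 0 < Nat.card K ^ 12 * (Nat.card K - 1) ^ 2 :=
    Nat.mul_pos (pow_pos Nat.card_pos _) (pow_pos (Nat.sub_pos_of_lt Finite.one_lt_card) _)
  have h3 : Nat.card ↥T.G1 = Nat.card ↥(par T 3) :=
    (Nat.card_congr (Equiv.subtypeUnivEquiv fun p => (mem_par T).2 (Finset.mem_univ _))).symm
  rw [h3, card_par, card_par, mul_left_comm] at h
  exact (Nat.eq_of_mul_eq_mul_left hpos h).symm

theorem st_one : st T 1 = (Nat.card K : ℂ) ^ 12 := by
  obtain ⟨w0, w1, w2, w3⟩ := wSum (Nat.card K)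
  have i0 := congrArg (Nat.cast : ℕ → ℂ) (index_par T 0)
  have i1 := congrArg (Nat.cast : ℕ → ℂ) (index_par T 1)
  have i2 := congrArg (Nat.cast : ℕ → ℂ) (index_par T 2)
  have i3 := congrArg (Nat.cast : ℕ → ℂ) (index_par T 3)
  rw [w0, w3] at i0
  rw [w1, w3] at i1
  rw [w2, w3] at i2
  rw [w3] at i3
  push_cast at i0 i1 i2 i3
  simp only [st, Finset.sum_apply, Pi.smul_apply, smul_eq_mul,
    CfsgLib.FlagChar.fixedPointCharacter_one, Fin.sum_univ_four, sgn, Int.cast_one, Int.cast_neg]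
  have hn : ∀ a : ℕ, ((1 : ℂ) + (Nat.card K : ℂ) ^ a) ≠ 0 := fun a => by
    have : ((1 + Nat.card K ^ a : ℕ) : ℂ) ≠ 0 := Nat.cast_ne_zero.2 (by omega)
    simpa using this
  set q := (Nat.card K : ℂ)
  set Y := (1 : ℂ) + q ^ 3 + q ^ 6 + q ^ 9
  have hS : (1 + q + q ^ 2 + q ^ 3) * Y ≠ 0 := by
    have : (((1 + Nat.card K + Nat.card K ^ 2 + Nat.card K ^ 3) *
        (1 + Nat.card K ^ 3 + Nat.card K ^ 6 + Nat.card K ^ 9) : ℕ) : ℂ) ≠ 0 :=
      Nat.cast_ne_zero.2 (Nat.mul_ne_zero (by omega) (by omega))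
    simpa [q, Y] using this
  have e0 : (Nat.card (↥T.G1 ⧸ par T 0) : ℂ) = (1 + q + q ^ 2 + q ^ 3) * Y := by simpa using i0
  have e1 : (Nat.card (↥T.G1 ⧸ par T 1) : ℂ) = (1 + q ^ 2) * Y :=
    mul_right_cancel₀ (b := 1 + q) (by simpa using hn 1) (by rw [i1]; ring)
  have e2 : (Nat.card (↥T.G1 ⧸ par T 2) : ℂ) = (1 + q) * Y :=
    mul_right_cancel₀ (hn 2) (by rw [i2]; ring)
  have e3 : (Nat.card (↥T.G1 ⧸ par T 3) : ℂ) = 1 :=
    mul_right_cancel₀ hS (by rw [i3, one_mul])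
  rw [e0, e1, e2, e3]
  simp only [Y]
  ring

theorem st_irr : Cfsg.IsIrrCharacter ↥T.G1 (st T) := by
  classical
  let _ : Fintype ↥T.G1 := Fintype.ofFinite _
  refine CfsgLib.FlagChar.isIrr_of_norm_one _ _ _
    (fun J _ => CfsgLib.FlagChar.isCharacter_fixedPointCharacter _) ?_ ?_
  · have h := congrArg (Int.cast : ℤ → ℂ) norm_count
    push_cast at h
    simp only [CfsgLib.Characters.classInner_sum_left, CfsgLib.Characters.classInner_sum_right,
      CfsgLib.Characters.classInner_smul_left, CfsgLib.Characters.classInner_smul_right,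
      CfsgLib.FlagChar.classInner_fixedPointCharacter, card_doubleCoset T, map_intCast]
    exact h
  · rw [← st, st_one, ← Nat.cast_pow, Complex.natCast_re, Nat.cast_pos]
    exact pow_pos Nat.card_pos _

theorem st_singular {m : ℕ} (hq : Nat.card K = 2 ^ (2 * m + 1)) {g : ↥T.G1}
    (hg : 2 ∣ orderOf g) : st T g = 0 := by
  let _ : Fintype ↥T.G1 := Fintype.ofFinite _
  obtain ⟨n, ρ, hirr, hρ⟩ := st_irr T
  have h1 := congrFun hρ 1
  rw [st_one, hq, Representation.char_one, ← Nat.cast_pow, Nat.cast_inj, ← pow_mul] at h1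
  have hcard : Nat.card ↥T.G1 = 2 ^ ((2 * m + 1) * 12) *
      (((2 ^ (2 * m + 1) - 1) * ((2 ^ (2 * m + 1)) ^ 3 + 1) *
        ((2 ^ (2 * m + 1)) ^ 4 - 1) * ((2 ^ (2 * m + 1)) ^ 6 + 1))) := by
    rw [T.natCard_G1 hq]
    ring
  have hev : ∀ a : ℕ, a ≠ 0 → 2 ∣ (2 ^ (2 * m + 1)) ^ a := fun a ha =>
    dvd_pow (dvd_pow_self 2 (by omega)) ha
  rw [← hρ]
  refine CfsgLib.Characters.char_eq_zero_of_defect_zero ρ Nat.prime_two
    (hcard ▸ dvd_mul_right _ _) ?_ (h1 ▸ dvd_rfl) g hg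
  rw [hcard, pow_succ, Nat.mul_dvd_mul_iff_left (pow_pos two_pos _)]
  simp only [Nat.Prime.dvd_mul Nat.prime_two, not_or]
  have hp : 1 ≤ (2 ^ (2 * m + 1)) ^ 4 := Nat.one_le_pow _ _ (pow_pos two_pos _)
  have := hev 1 one_ne_zero
  have := hev 3 (by norm_num)
  have := hev 4 (by norm_num)
  have := hev 6 (by norm_num)
  have : 1 ≤ 2 ^ (2 * m + 1) := Nat.one_le_pow _ _ two_pos
  rw [pow_one] at *
  refine ⟨⟨⟨?_, ?_⟩, ?_⟩, ?_⟩ <;> omega

/-- An element of even order fixes a point of some `G/P` with `P` proper. -/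
theorem exists_fixed {m : ℕ} (hq : Nat.card K = 2 ^ (2 * m + 1)) {g : ↥T.G1}
    (hg : 2 ∣ orderOf g) : ∃ J : Fin 4, J ≠ 3 ∧ (MulAction.fixedBy (↥T.G1 ⧸ par T J) g).Nonempty := by
  by_contra hne
  push Not at hne
  have h3 : Nat.card (MulAction.fixedBy (↥T.G1 ⧸ par T 3) g) = 1 := by
    have ht : par T 3 = ⊤ := eq_top_iff.2 fun p _ => (mem_par T).2 (Finset.mem_univ _)
    have : Subsingleton (↥T.G1 ⧸ par T 3) := by rw [ht]; exact QuotientGroup.subsingleton_quotient_top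
    rw [Nat.card_eq_one_iff_unique]
    exact ⟨⟨fun a b => Subtype.ext (Subsingleton.elim _ _)⟩,
      ⟨⟨((1 : ↥T.G1) : ↥T.G1 ⧸ par T 3), Subsingleton.elim _ _⟩⟩⟩
  have h0 : ∀ J : Fin 4, J ≠ 3 → Nat.card (MulAction.fixedBy (↥T.G1 ⧸ par T J) g) = 0 := by
    intro J hJ
    rw [hne J hJ]
    exact Nat.card_of_isEmpty
  have := st_singular T hq hg
  simp only [st, Finset.sum_apply, Pi.smul_apply, Fin.sum_univ_four, Cfsg.fixedPointCharacter, sgn,
    h3, h0 0 (by decide), h0 1 (by decide), h0 2 (by decide)] at this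
  simp at this

end CfsgLib.ReeF4Steinberg
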